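import Mathlib.RingTheory.AlgebraicIndependent.AlgebraicClosure
import Mathlib.RingTheory.AlgebraicIndependent.TranscendenceBasis
import Mathlib.RingTheory.TensorProduct.MvPolynomial
import Mathlib.RingTheory.Flat.Basic
import Mathlib.Algebra.MvPolynomial.Funext
import Mathlib.FieldTheory.IsAlgClosed.AlgebraicClosure
import Mathlib.RingTheory.Ideal.GoingUp
import Mathlib.RingTheory.Localization.AtPrime.Basic

/-!
# Independence in tensor products and specialisation of finitely many elements
-/

set_option autoImplicit false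
set_option linter.all false

universe u

open TensorProduct MvPolynomial

namespace GrothLib.CvgBC4

theorem algebraicIndependent_of_tensor {k A B C : Type u} [Field k] [CommRing A] [CommRing B] [CommRing C]
    [Algebra k A] [Module.Flat k A] [Algebra k B] [Algebra k C] [Algebra A C] [IsScalarTower k A C]
    (g : B →ₐ[k] C) (hinj : ∀ z : A ⊗[k] B,
      Algebra.TensorProduct.productMap (IsScalarTower.toAlgHom k A C) g z = 0 → z = 0)
    {ι : Type u} {y : ι → B} (hy : AlgebraicIndependent k y) : AlgebraicIndependent A (g ∘ y) := by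
  rw [algebraicIndependent_iff_injective_aeval]
  let e := (algebraTensorAlgEquiv k A : A ⊗[k] MvPolynomial ι k ≃ₐ[A] MvPolynomial ι A).symm
  let Φ : A ⊗[k] B →ₐ[A] C := Algebra.TensorProduct.lift (Algebra.ofId A C) g fun _ _ => Commute.all _ _
  have h : MvPolynomial.aeval (g ∘ y) =
      Φ.comp ((Algebra.TensorProduct.map (AlgHom.id A A) (MvPolynomial.aeval y)).comp e.toAlgHom) := by
    refine MvPolynomial.algHom_ext fun i => ?_
    simp [e, Φ]
  rw [h]
  refine (Function.Injective.comp (g := Φ) ?_ (Function.Injective.comp (g := Algebra.TensorProduct.map _ _) ?_ e.injective))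
  · refine (injective_iff_map_eq_zero Φ).2 fun z hz => hinj z ?_
    rw [← hz]
    clear hz
    induction z with
    | zero => simp
    | tmul a b => simp [Φ]
    | add p q hp hq => rw [map_add, map_add]; exact congrArg₂ (· + ·) hp hq
  · exact Module.Flat.lTensor_preserves_injective_linearMap (MvPolynomial.aeval y).toLinearMap
      ((algebraicIndependent_iff_injective_aeval).1 hy)

/-- An element algebraic over a coefficient ring stays algebraic after enlarging it. -/
theorem isAlgebraic_all_of_gen {R C : Type u} [CommRing R] [IsDomain R] [Field C] [Algebra R C]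
    (S₁ : Set C) (hgen : ∀ S : Subfield C, S₁ ⊆ S → ∀ z, z ∈ S)
    (hinj : Function.Injective (algebraMap R C)) (h : ∀ x ∈ S₁, IsAlgebraic R x) (z : C) :
    IsAlgebraic R z := by
  haveI : FaithfulSMul R C := (faithfulSMul_iff_algebraMap_injective R C).2 hinj
  let S : Subfield C :=
    { (Subalgebra.algebraicClosure R C).toSubring with
      inv_mem' := fun x hx => IsAlgebraic.inv hx }
  exact hgen S h z

/-- Finitely many elements of `C`, algebraic over `K[y]`, can be specialised to a finite field over `K`
with prescribed non-vanishing of a polynomial in `y`. -/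
theorem exists_specialization {k K C : Type u} [Field k] [Field K] [Field C] [Algebra k K] [Algebra k C]
    [Algebra K C] [IsScalarTower k K C] {σ : Type u} (y : σ → C) (hy : AlgebraicIndependent K y)
    (halg : ∀ z : C, letI := (MvPolynomial.aeval (R := K) y).toRingHom.toAlgebra
      IsAlgebraic (MvPolynomial σ K) z)
    (Z : Finset C) (c : MvPolynomial σ k) (hc : c ≠ 0) :
    ∃ (A κ : Type u) (_ : CommRing A) (_ : Field κ) (_ : Algebra K A) (_ : Algebra K κ) (_ : Algebra k κ)
      (_ : IsScalarTower k K κ) (j : A →ₐ[K] C) (π : A →ₐ[K] κ) (a : σ → A),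
      Function.Injective j ∧ Algebra.IsAlgebraic K κ ∧ (∀ z ∈ Z, z ∈ Set.range j) ∧
      (∀ i, j (a i) = y i) ∧ (∀ i, IsAlgebraic k (π (a i))) ∧
      MvPolynomial.aeval (fun i => π (a i)) c ≠ 0 := by
  classical
  let P := MvPolynomial σ K
  letI : Algebra P C := (MvPolynomial.aeval (R := K) y).toRingHom.toAlgebra
  haveI : IsScalarTower K P C := IsScalarTower.of_algebraMap_eq fun x =>
    ((MvPolynomial.aeval (R := K) y).commutes x).symm
  have hP : Function.Injective (algebraMap P C) := (algebraicIndependent_iff_injective_aeval).1 hy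
  have hm : ∀ z : C, ∃ m ≠ (0 : P), IsIntegral P (m • z) := fun z => (halg z).exists_integral_multiple
  choose m hm0 hm using hm
  let cK : P := MvPolynomial.map (algebraMap k K) c
  let p : P := (∏ z ∈ Z, m z) * cK
  have hp : p ≠ 0 := by
    refine mul_ne_zero (Finset.prod_ne_zero_iff.2 fun z _ => hm0 z) fun h => hc ?_
    exact MvPolynomial.map_injective (algebraMap k K) (algebraMap k K).injective (h.trans (map_zero _).symm)
  let Ω := AlgebraicClosure K
  let k' : IntermediateField k Ω := algebraicClosure k Ω
  haveI : IsAlgClosed k' := (algebraicClosure.isAlgClosure k Ω).isAlgClosed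
  have hinf : (k' : Set Ω).Infinite := Set.infinite_coe_iff.1 (inferInstanceAs (Infinite k'))
  obtain ⟨b, hb, hb0⟩ : ∃ b : σ → Ω, (∀ i, b i ∈ k') ∧ MvPolynomial.aeval b p ≠ 0 := by
    by_contra! h
    refine hp (MvPolynomial.map_injective (algebraMap K Ω) (algebraMap K Ω).injective ?_)
    rw [map_zero]
    refine MvPolynomial.funext_set (fun _ => (k' : Set Ω)) (fun _ => hinf) fun x hx => ?_
    rw [MvPolynomial.eval_map, map_zero]
    exact h x fun i => hx i (Set.mem_univ i)
  let ev : P →ₐ[K] Ω := MvPolynomial.aeval b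
  let M : Ideal P := RingHom.ker ev
  haveI hM : M.IsMaximal := by
    refine Ideal.Quotient.maximal_of_isField _ ?_
    exact MulEquiv.isField (Subalgebra.isField_of_algebraic ev.range)
      (RingHom.quotientKerEquivRange ev.toRingHom).toMulEquiv
  let A₀ := integralClosure P C
  have hA₀ : Function.Injective (algebraMap P A₀) := fun s t h => hP (congrArg Subtype.val h)
  obtain ⟨Q, hQ, hQM⟩ := Ideal.exists_ideal_over_maximal_of_isIntegral (S := A₀) M
    (by rw [(RingHom.injective_iff_ker_eq_bot _).1 hA₀]; exact bot_le)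
  let κ := A₀ ⧸ Q
  letI : Field κ := Ideal.Quotient.field Q
  letI : Algebra k κ := ((algebraMap K κ).comp (algebraMap k K)).toAlgebra
  haveI : IsScalarTower k K κ := IsScalarTower.of_algebraMap_eq fun _ => rfl
  let q : A₀ →ₐ[K] κ := Ideal.Quotient.mkₐ K Q
  let θ : P →ₐ[K] κ := q.comp (IsScalarTower.toAlgHom K P A₀)
  have hθ : ∀ s, θ s = 0 ↔ ev s = 0 := fun s => by
    rw [show (ev s = 0 ↔ s ∈ M) from RingHom.mem_ker.symm, ← hQM]
    exact Ideal.Quotient.eq_zero_iff_mem
  have hX : ∀ i, IsAlgebraic k (θ (X i)) := fun i => by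
    obtain ⟨f, hf0, hf⟩ := (mem_algebraicClosure_iff.1 (hb i) : IsAlgebraic k (b i))
    refine ⟨f, hf0, ?_⟩
    rw [← Polynomial.aeval_map_algebraMap K] at hf ⊢
    rw [Polynomial.aeval_algHom_apply, hθ, ← Polynomial.aeval_algHom_apply]
    rw [show ev (X i) = b i from MvPolynomial.aeval_X _ _]
    exact hf
  haveI : Algebra.IsAlgebraic K κ := by
    let R' := integralClosure K κ
    have hR : ∀ s : P, θ s ∈ R' := fun s => by
      induction s using MvPolynomial.induction_on with
      | C r =>
        rw [show θ (MvPolynomial.C r) = algebraMap K κ r from θ.commutes r]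
        exact R'.algebraMap_mem r
      | add s t hs ht => rw [map_add]; exact add_mem hs ht
      | mul_X s i hs =>
        rw [map_mul]
        exact mul_mem hs ((hX i).isIntegral.tower_top)
    refine ⟨fun z => ?_⟩
    obtain ⟨a, rfl⟩ := Ideal.Quotient.mk_surjective z
    obtain ⟨f, hfm, hf⟩ := (Algebra.IsIntegral.isIntegral (R := P) a)
    let θ' : P →+* R' := θ.toRingHom.codRestrict R' hR
    have h : IsIntegral R' (Ideal.Quotient.mk Q a : κ) := by
      refine ⟨f.map θ', hfm.map _, ?_⟩
      rw [Polynomial.eval₂_map]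
      have h2 := congrArg (Ideal.Quotient.mk Q) hf
      rw [Polynomial.hom_eval₂, map_zero] at h2
      exact h2
    exact (isIntegral_trans (R := K) (A := R') _ h).isAlgebraic
  let A := Localization.AtPrime Q
  let j₀ : A₀ →ₐ[K] C := A₀.val.restrictScalars K
  have hj : ∀ s : Q.primeCompl, IsUnit (j₀ s) := fun s => IsUnit.mk0 _ fun h => s.2 (by
    rw [show (s : A₀) = 0 from Subtype.ext h]; exact Q.zero_mem)
  have hq : ∀ s : Q.primeCompl, IsUnit (q s) := fun s => IsUnit.mk0 _ fun h =>
    s.2 (Ideal.Quotient.eq_zero_iff_mem.1 h)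
  let j : A →ₐ[K] C := IsLocalization.liftAlgHom (M := Q.primeCompl) (f := j₀) hj
  let π : A →ₐ[K] κ := IsLocalization.liftAlgHom (M := Q.primeCompl) (f := q) hq
  let a : σ → A := fun i => algebraMap A₀ A (algebraMap P A₀ (X i))
  have hπa : ∀ i, π (a i) = θ (X i) := fun i => IsLocalization.lift_eq hq _
  refine ⟨A, κ, inferInstance, inferInstance, inferInstance, inferInstance, inferInstance, inferInstance,
    j, π, a, ?_, inferInstance, fun z hz => ?_, fun i => ?_, fun i => ?_, ?_⟩
  · intro x' y' hxy
    rw [← sub_eq_zero]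
    generalize hd : x' - y' = x
    have hx : j x = 0 := by rw [← hd, map_sub, hxy, sub_self]
    obtain ⟨⟨r, s⟩, hrs⟩ := IsLocalization.surj Q.primeCompl x
    have h2 := congrArg j hrs
    rw [map_mul, hx, zero_mul] at h2
    have hr : r = 0 := Subtype.ext ((IsLocalization.lift_eq hj r).symm.trans h2.symm)
    rw [hr, map_zero] at hrs
    exact (IsLocalization.map_units A s).mul_left_eq_zero.1 hrs
  · let r : A₀ := ⟨m z • z, hm z⟩
    let s : Q.primeCompl := ⟨algebraMap P A₀ (m z), fun h => hb0 (by
      show ev p = 0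
      rw [show p = (∏ z ∈ Z, m z) * cK from rfl, ← Finset.mul_prod_erase Z m hz, map_mul, map_mul,
        (hθ (m z)).1 (Ideal.Quotient.eq_zero_iff_mem.2 h), zero_mul, zero_mul])⟩
    refine ⟨IsLocalization.mk' A r s, (IsLocalization.lift_mk'_spec _ _ _ _).2 ?_⟩
    show m z • z = algebraMap P C (m z) * z
    rw [Algebra.smul_def]
  · exact (IsLocalization.lift_eq hj _).trans (MvPolynomial.aeval_X y i)
  · rw [hπa]; exact hX i
  · rw [show (fun i => π (a i)) = fun i => θ (X i) from funext hπa,
      ← MvPolynomial.aeval_map_algebraMap K,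
      show MvPolynomial.aeval (fun i => θ (X i)) = θ from (MvPolynomial.aeval_unique θ).symm]
    intro h
    apply hb0
    show ev p = 0
    rw [show p = (∏ z ∈ Z, m z) * cK from rfl, map_mul, (hθ cK).1 h, mul_zero]

end GrothLib.CvgBC4
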