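import Groth.Prelude.Def_W4c3irrattreebunCvg
import Mathlib.FieldTheory.IsAlgClosed.AlgebraicClosure
import Mathlib.FieldTheory.IntermediateField.Adjoin.Basic
import Mathlib.FieldTheory.PurelyInseparable.Basic
import Mathlib.LinearAlgebra.Dimension.Constructions

/-!
# Covering gonality under algebraic extensions of the constants
-/

set_option autoImplicit false
set_option linter.all false

universe u

open IntermediateField W4c3irrattreebun

namespace GrothLib.CvgBC4

theorem exists_intermediateField_eq_span {T C : Type u} [Field T] [Field C] [Algebra T C]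
    {ι : Type} [Fintype ι] (w : ι → C) (h1 : (1 : C) ∈ Submodule.span T (Set.range w))
    (hmul : ∀ i j, w i * w j ∈ Submodule.span T (Set.range w)) :
    ∃ F : IntermediateField T C, (F : Set C) = (Submodule.span T (Set.range w) : Set C) := by
  set M := Submodule.span T (Set.range w) with hM
  have hm : ∀ x y, x ∈ M → y ∈ M → x * y ∈ M := by
    intro x y hx hy
    induction hx using Submodule.span_induction with
    | mem a ha =>
      obtain ⟨i, rfl⟩ := ha
      induction hy using Submodule.span_induction with
      | mem b hb => obtain ⟨j, rfl⟩ := hb; exact hmul i j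
      | zero => rw [mul_zero]; exact M.zero_mem
      | add p q _ _ hp hq => rw [mul_add]; exact M.add_mem hp hq
      | smul c p _ hp => rw [mul_smul_comm]; exact M.smul_mem c hp
    | zero => rw [zero_mul]; exact M.zero_mem
    | add p q _ _ hp hq => rw [add_mul]; exact M.add_mem hp hq
    | smul c p _ hp => rw [smul_mul_assoc]; exact M.smul_mem c hp
  let A : Subalgebra T C := M.toSubalgebra h1 hm
  haveI : FiniteDimensional T A :=
    (FiniteDimensional.span_of_finite T (Set.finite_range w) : FiniteDimensional T M)
  exact ⟨A.toIntermediateField' (isField_of_isIntegral_of_isField' (Field.toIsField T)), rfl⟩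

theorem finite_and_finrank_le_of_span {T C : Type u} [Field T] [Field C] [Algebra T C] {e : ℕ}
    (w : Fin e → C) (h : Submodule.span T (Set.range w) = ⊤) :
    Module.Finite T C ∧ Module.finrank T C ≤ e := by
  classical
  refine ⟨Module.Finite.of_fg_top ⟨(Finset.univ.image w : Finset C), by simpa using h⟩, ?_⟩
  have := finrank_range_le_card (R := T) w
  rw [Set.finrank, h, finrank_top, Fintype.card_fin] at this
  exact this

/-- Going down along an algebraic extension of the constants. -/
theorem descend {k K L K' : Type u} [Field k] [Field K] [Field L] [Field K'] [Algebra k K] [Algebra k L]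
    [Algebra k K'] [Algebra K K'] [Algebra L K'] [IsScalarTower k K K'] [IsScalarTower k L K']
    [Algebra.IsAlgebraic K K'] (hfg : (⊤ : IntermediateField k K).FG) {e : ℕ} (D : CovDiag.{u} L K' e) :
    ∃ e' ≤ e, ∃ D' : CovDiag.{u} k K e',
      Algebra.IsSeparable K K' → Algebra.IsSeparable K' D.KC → Algebra.IsSeparable K D'.KC := by
  classical
  let C := D.KC
  letI : Algebra K C := ((algebraMap K' C).comp (algebraMap K K')).toAlgebra
  letI : Algebra k C := ((algebraMap K' C).comp (algebraMap k K')).toAlgebra
  haveI : IsScalarTower K K' C := IsScalarTower.of_algebraMap_eq fun _ => rfl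
  haveI : IsScalarTower k K C := IsScalarTower.of_algebraMap_eq fun x => by
    show algebraMap K' C (algebraMap k K' x) = algebraMap K' C (algebraMap K K' (algebraMap k K x))
    rw [IsScalarTower.algebraMap_apply k K K' x]
  have hkB : ∀ x : k, algebraMap k C x = algebraMap D.KB C (algebraMap L D.KB (algebraMap k L x)) := fun x => by
    show algebraMap K' C (algebraMap k K' x) = _
    rw [IsScalarTower.algebraMap_apply k L K' x, ← IsScalarTower.algebraMap_apply L K' C,
      IsScalarTower.algebraMap_apply L D.KB C]
  haveI : Algebra.IsAlgebraic K C := Algebra.IsAlgebraic.trans K K' C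
  let T : IntermediateField D.KB C := IntermediateField.adjoin D.KB {D.t}
  haveI : Module.Finite T C := D.finiteT
  let w : Fin e → C := Module.finBasisOfFinrankEq T C D.finrank_eq
  let b := Module.finBasisOfFinrankEq T C D.finrank_eq
  obtain ⟨G, hG⟩ := hfg
  -- the elements to be expanded
  let P : Finset C := {1} ∪ G.image (algebraMap K C) ∪
    (Finset.univ : Finset (Fin e × Fin e)).image (fun p => b p.1 * b p.2)
  let cs : Finset C := (P ×ˢ (Finset.univ : Finset (Fin e))).image (fun p => ((b.repr p.1 p.2 : T) : C))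
  let S : Set C := insert D.t (Set.range (algebraMap D.KB C))
  have hS : ∀ c : T, (c : C) ∈ IntermediateField.adjoin k S := by
    intro c
    refine IntermediateField.adjoin_induction D.KB (p := fun x _ => x ∈ IntermediateField.adjoin k S)
      ?_ ?_ ?_ ?_ ?_ c.2
    · intro x hx
      exact IntermediateField.subset_adjoin k S (Or.inl hx)
    · intro x
      exact IntermediateField.subset_adjoin k S (Or.inr ⟨x, rfl⟩)
    · intro x y _ _ hx hy; exact add_mem hx hy
    · intro x _ hx; exact inv_mem hx
    · intro x y _ _ hx hy; exact mul_mem hx hy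
  have hfin : ∀ c ∈ cs, ∃ s : Finset C, ↑s ⊆ S ∧ c ∈ IntermediateField.adjoin k (s : Set C) := by
    intro c hc
    obtain ⟨p, -, rfl⟩ := Finset.mem_image.1 hc
    exact exists_finset_of_mem_adjoin (hS _)
  choose! f hfS hf using hfin
  let s : Finset C := (cs.biUnion f).erase D.t
  have hs : (s : Set C) ⊆ Set.range (algebraMap D.KB C) := by
    intro x hx
    obtain ⟨hne, hx⟩ := Finset.mem_erase.1 (Finset.mem_coe.1 hx)
    obtain ⟨c, hc, hx⟩ := Finset.mem_biUnion.1 hx
    exact (hfS c hc hx).resolve_left hne
  let B : IntermediateField k C := IntermediateField.adjoin k (s : Set C)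
  have hB : ∀ x : C, x ∈ B → x ∈ Set.range (algebraMap D.KB C) := by
    intro x hx
    refine IntermediateField.adjoin_induction k (p := fun y _ => y ∈ (algebraMap D.KB C).fieldRange)
      (fun y hy => hs hy) (fun y => ⟨_, (hkB y).symm⟩) (fun _ _ _ _ => add_mem) (fun _ _ => inv_mem)
      (fun _ _ _ _ => mul_mem) hx
  let T₀ : IntermediateField B C := IntermediateField.adjoin B {D.t}
  have hcs : ∀ c ∈ cs, c ∈ T₀ := by
    intro c hc
    refine IntermediateField.adjoin_induction k (p := fun y _ => y ∈ T₀) ?_ ?_
      (fun _ _ _ _ => add_mem) (fun _ _ => inv_mem) (fun _ _ _ _ => mul_mem) (hf c hc)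
    · intro y hy
      rcases eq_or_ne y D.t with rfl | hne
      · exact IntermediateField.subset_adjoin B _ rfl
      · exact T₀.algebraMap_mem ⟨y, IntermediateField.subset_adjoin k _
          (Finset.mem_coe.2 (Finset.mem_erase.2 ⟨hne, Finset.mem_biUnion.2 ⟨c, hc, Finset.mem_coe.1 hy⟩⟩))⟩
    · intro y
      exact T₀.algebraMap_mem (algebraMap k B y)
  have hP : ∀ x ∈ P, x ∈ Submodule.span T₀ (Set.range b) := by
    intro x hx
    rw [← b.sum_repr x]
    refine Submodule.sum_mem _ fun i _ => ?_
    have hmem : ((b.repr x i : T) : C) ∈ T₀ := hcs _ (Finset.mem_image.2 ⟨(x, i), by simp [hx], rfl⟩)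
    exact Submodule.smul_mem _ (⟨_, hmem⟩ : T₀) (Submodule.subset_span ⟨i, rfl⟩)
  obtain ⟨F, hF⟩ := exists_intermediateField_eq_span (T := T₀) (fun i => b i) (hP 1 (by simp [P]))
    (fun i j => hP _ (Finset.mem_union_right _ (Finset.mem_image.2 ⟨(i, j), by simp, rfl⟩)))
  let E : IntermediateField B C := F.restrictScalars B
  have hE : ∀ x, x ∈ E ↔ x ∈ Submodule.span T₀ (Set.range b) := fun x => Set.ext_iff.1 hF x
  have hT₀E : ∀ x ∈ T₀, x ∈ E := fun x hx => F.algebraMap_mem ⟨x, hx⟩
  have hKE : ∀ x : K, algebraMap K C x ∈ E := by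
    intro x
    refine IntermediateField.adjoin_induction k (p := fun y _ => algebraMap K C y ∈ E) ?_ ?_ ?_ ?_ ?_
      (show x ∈ IntermediateField.adjoin k (G : Set K) by rw [hG]; trivial)
    · intro y hy
      exact (hE _).2 (hP _ (Finset.mem_union_left _ (Finset.mem_union_right _ (Finset.mem_image_of_mem _ hy))))
    · intro y
      rw [← IsScalarTower.algebraMap_apply k K C]
      exact E.algebraMap_mem (algebraMap k B y)
    · intro a a' _ _ h h'; rw [map_add]; exact add_mem h h'
    · intro a _ h; rw [map_inv₀]; exact inv_mem h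
    · intro a a' _ _ h h'; rw [map_mul]; exact mul_mem h h'
  let t : E := ⟨D.t, hT₀E _ (IntermediateField.subset_adjoin B _ rfl)⟩
  letI : Algebra K E := ((algebraMap K C).codRestrict E hKE).toAlgebra
  letI : Algebra k E := ((algebraMap B E).comp (algebraMap k B)).toAlgebra
  haveI : IsScalarTower k K E := IsScalarTower.of_algebraMap_eq fun x => Subtype.ext
    (IsScalarTower.algebraMap_apply k K C x)
  haveI : IsScalarTower k B E := IsScalarTower.of_algebraMap_eq fun _ => rfl
  let ι : E →ₐ[K] C := { E.val.toRingHom with commutes' := fun _ => rfl }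
  -- finiteness over `K`
  let H : IntermediateField K C :=
    IntermediateField.adjoin K (insert D.t ((s : Set C) ∪ Set.range b))
  haveI : FiniteDimensional K H := by
    haveI : Finite (insert D.t ((s : Set C) ∪ Set.range b) : Set C) :=
      (((s.finite_toSet).union (Set.finite_range _)).insert _).to_subtype
    exact finiteDimensional_adjoin fun x _ => Algebra.IsIntegral.isIntegral x
  have hBH : ∀ x : C, x ∈ B → x ∈ H := fun x hx =>
    IntermediateField.adjoin_induction k (p := fun y _ => y ∈ H)
      (fun y hy => IntermediateField.subset_adjoin K _ (Or.inr (Or.inl hy)))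
      (fun y => by rw [IsScalarTower.algebraMap_apply k K C]; exact H.algebraMap_mem _)
      (fun _ _ _ _ => add_mem) (fun _ _ => inv_mem) (fun _ _ _ _ => mul_mem) hx
  have hT₀H : ∀ x ∈ T₀, x ∈ H := fun x hx =>
    IntermediateField.adjoin_induction B (p := fun y _ => y ∈ H)
      (fun y hy => by rw [Set.mem_singleton_iff.1 hy]; exact IntermediateField.subset_adjoin K _ (Or.inl rfl))
      (fun y => hBH _ y.2)
      (fun _ _ _ _ => add_mem) (fun _ _ => inv_mem) (fun _ _ _ _ => mul_mem) hx
  have hEH : ∀ x ∈ E, x ∈ H := by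
    intro x hx
    have hx' := (hE x).1 hx
    induction hx' using Submodule.span_induction with
    | mem a ha => exact IntermediateField.subset_adjoin K _ (Or.inr (Or.inr ha))
    | zero => exact zero_mem H
    | add p q hp' hq' hp hq => exact add_mem (hp ((hE p).2 hp')) (hq ((hE q).2 hq'))
    | smul c p hp' hp => exact mul_mem (hT₀H _ c.2) (hp ((hE p).2 hp'))
  haveI : Module.Finite K E :=
    Module.Finite.of_injective (ι.codRestrict H.toSubalgebra fun x => hEH _ x.2).toLinearMap
      (fun a a' h => Subtype.ext (congrArg (fun z : H.toSubalgebra => (z : C)) h))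
  -- the degree
  let T₁ : IntermediateField B E := IntermediateField.adjoin B {t}
  have hT₁ : T₁.map E.val = T₀ := by
    rw [IntermediateField.adjoin_map, Set.image_singleton]
    rfl
  have hwE : ∀ i, b i ∈ E := fun i => (hE _).2 (Submodule.subset_span ⟨i, rfl⟩)
  have hspan : Submodule.span T₁ (Set.range fun i => (⟨b i, hwE i⟩ : E)) = ⊤ := by
    refine eq_top_iff.2 fun x _ => ?_
    obtain ⟨c, hc⟩ := (Submodule.mem_span_range_iff_exists_fun _).1 ((hE x.1).1 x.2)
    have hc' : ∀ i, ∃ d : T₁, ((d : E) : C) = (c i : C) := fun i => by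
      obtain ⟨d, hd, hd'⟩ := (show (c i : C) ∈ T₁.map E.val by rw [hT₁]; exact (c i).2)
      exact ⟨⟨d, hd⟩, hd'⟩
    choose d hd using hc'
    refine (Submodule.mem_span_range_iff_exists_fun _).2 ⟨d, Subtype.ext ?_⟩
    rw [← hc, IntermediateField.coe_sum]
    exact Finset.sum_congr rfl fun i _ => congrArg (· * b i) (hd i)
  obtain ⟨hfinT, hle⟩ := finite_and_finrank_le_of_span _ hspan
  haveI : Module.Finite (IntermediateField.adjoin B ({t} : Set E)) E := hfinT
  refine ⟨_, hle, { KC := E, KB := B, t := t, transc := ?_, finrank_eq := rfl }, ?_⟩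
  · rintro ⟨q, hq0, hq⟩
    let g : B →+* D.KB := (RingEquiv.ofBijective (algebraMap D.KB C).rangeRestrict
        ⟨fun a a' h => (algebraMap D.KB C).injective (congrArg Subtype.val h),
          (algebraMap D.KB C).rangeRestrict_surjective⟩).symm.toRingHom.comp
      ((algebraMap B C).codRestrict (algebraMap D.KB C).range fun x => hB _ x.2)
    have hg : ∀ x : B, algebraMap D.KB C (g x) = (x : C) := fun x =>
      congrArg Subtype.val (RingEquiv.apply_symm_apply (RingEquiv.ofBijective (algebraMap D.KB C).rangeRestrict
        ⟨fun a a' h => (algebraMap D.KB C).injective (congrArg Subtype.val h),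
          (algebraMap D.KB C).rangeRestrict_surjective⟩) ⟨(x : C), hB _ x.2⟩)
    refine D.transc ⟨q.map g, (Polynomial.map_ne_zero_iff g.injective).2 hq0, ?_⟩
    rw [Polynomial.aeval_def, Polynomial.eval₂_map,
      show (algebraMap D.KB C).comp g = algebraMap B C from RingHom.ext hg]
    have h2 := congrArg E.val hq
    rw [map_zero, ← Polynomial.aeval_algHom_apply] at h2
    exact h2
  · intro h₁ h₂
    haveI : Algebra.IsSeparable K C := Algebra.IsSeparable.trans K K' C
    exact Algebra.IsSeparable.of_algHom K C ι

/-- Going up along an algebraic extension of the constants. -/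
theorem ascend {k K L K' : Type u} [Field k] [Field K] [Field L] [Field K'] [Algebra k K] [Algebra k L]
    [Algebra k K'] [Algebra K K'] [Algebra L K'] [IsScalarTower k K K'] [IsScalarTower k L K']
    [Algebra.IsAlgebraic k L]
    (hgen : ∀ S : Subfield K', (∀ x, algebraMap K K' x ∈ S) → (∀ y, algebraMap L K' y ∈ S) → ∀ z, z ∈ S)
    {e : ℕ} (D : CovDiag.{u} k K e) :
    ∃ e' ≤ e, ∃ D' : CovDiag.{u} L K' e',
      Algebra.IsSeparable K D.KC → Algebra.IsSeparable K' D'.KC := by
  classical
  let Ω := AlgebraicClosure K'
  let φ : D.KC →ₐ[K] Ω := IsAlgClosed.lift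
  let bK := Module.finBasis K D.KC
  let E : IntermediateField K' Ω := IntermediateField.adjoin K' (Set.range fun i => φ (bK i))
  haveI : Finite (Set.range fun i => φ (bK i)) := (Set.finite_range _).to_subtype
  haveI : FiniteDimensional K' E := finiteDimensional_adjoin fun x _ => Algebra.IsIntegral.isIntegral x
  have hφE : ∀ c, φ c ∈ E := by
    intro c
    rw [← bK.sum_repr c, map_sum]
    refine sum_mem fun i _ => ?_
    rw [map_smul, Algebra.smul_def, IsScalarTower.algebraMap_apply K K' Ω]
    exact mul_mem (E.algebraMap_mem _) (IntermediateField.subset_adjoin K' _ ⟨i, rfl⟩)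
  letI : Algebra K E := ((algebraMap K' E).comp (algebraMap K K')).toAlgebra
  letI : Algebra L E := ((algebraMap K' E).comp (algebraMap L K')).toAlgebra
  letI : Algebra k E := ((algebraMap K' E).comp (algebraMap k K')).toAlgebra
  haveI : IsScalarTower L K' E := IsScalarTower.of_algebraMap_eq fun _ => rfl
  haveI : IsScalarTower k L E := IsScalarTower.of_algebraMap_eq fun x =>
    congrArg (algebraMap K' E) (IsScalarTower.algebraMap_apply k L K' x)
  let ψ : D.KC →+* E := φ.toRingHom.codRestrict E hφE
  have hψK : ∀ x, ψ (algebraMap K D.KC x) = algebraMap K E x := fun x => Subtype.ext <| by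
    show φ (algebraMap K D.KC x) = _
    rw [φ.commutes, IsScalarTower.algebraMap_apply K K' Ω]
    rfl
  let β : D.KB →ₐ[k] E :=
    { ψ.comp (algebraMap D.KB D.KC) with
      commutes' := fun x => by
        show ψ (algebraMap D.KB D.KC (algebraMap k D.KB x)) = algebraMap K' E (algebraMap k K' x)
        rw [← IsScalarTower.algebraMap_apply k D.KB D.KC, IsScalarTower.algebraMap_apply k K D.KC,
          hψK, IsScalarTower.algebraMap_apply k K K']
        rfl }
  let B : IntermediateField k E := β.fieldRange
  let B' : IntermediateField B E := IntermediateField.adjoin B (Set.range (algebraMap L E))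
  haveI : Algebra.IsAlgebraic B B' := IntermediateField.isAlgebraic_adjoin fun x hx => by
    obtain ⟨y, rfl⟩ := hx
    exact (((Algebra.IsAlgebraic.isAlgebraic (R := k) y).algebraMap).isIntegral).tower_top
  letI : Algebra L B' := ((algebraMap L E).codRestrict B' fun y =>
    IntermediateField.subset_adjoin B _ ⟨y, rfl⟩).toAlgebra
  haveI : IsScalarTower L B' E := IsScalarTower.of_algebraMap_eq fun _ => rfl
  let t : E := ψ D.t
  have htB : Transcendental B t := by
    rintro ⟨q, hq0, hq⟩
    let eB : D.KB ≃+* B := RingEquiv.ofBijective β.rangeRestrict.toRingHom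
      ⟨fun a a' h => β.toRingHom.injective (congrArg Subtype.val h), β.rangeRestrict_surjective⟩
    refine D.transc ⟨q.map eB.symm.toRingHom, (Polynomial.map_ne_zero_iff eB.symm.injective).2 hq0,
      ψ.injective ?_⟩
    rw [map_zero, ← hq, Polynomial.aeval_def, Polynomial.eval₂_map, Polynomial.hom_eval₂,
      Polynomial.aeval_def]
    exact congrArg (fun r => Polynomial.eval₂ r t q)
      (RingHom.ext fun x => congrArg Subtype.val (eB.apply_symm_apply x))
  have ht : Transcendental B' t := fun h => htB (h.restrictScalars B)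
  let T₁ : IntermediateField B' E := IntermediateField.adjoin B' {t}
  let T : IntermediateField D.KB D.KC := IntermediateField.adjoin D.KB {D.t}
  haveI : Module.Finite T D.KC := D.finiteT
  let b := Module.finBasisOfFinrankEq T D.KC D.finrank_eq
  have hT : ∀ c : T, ψ c ∈ T₁ := fun c =>
    IntermediateField.adjoin_induction D.KB (p := fun x _ => ψ x ∈ T₁)
      (fun x hx => by rw [Set.mem_singleton_iff.1 hx]; exact IntermediateField.subset_adjoin B' _ rfl)
      (fun x => T₁.algebraMap_mem (algebraMap B B' ⟨β x, x, rfl⟩))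
      (fun a a' _ _ h h' => by rw [map_add]; exact add_mem h h')
      (fun a _ h => by rw [map_inv₀]; exact inv_mem h)
      (fun a a' _ _ h h' => by rw [map_mul]; exact mul_mem h h') c.2
  have hsp : ∀ c : D.KC, ψ c ∈ Submodule.span T₁ (Set.range fun i => ψ (b i)) := fun c => by
    rw [← b.sum_repr c, map_sum]
    refine Submodule.sum_mem _ fun i _ => ?_
    rw [show b.repr c i • b i = ((b.repr c i : T) : D.KC) * b i from rfl, map_mul]
    exact Submodule.smul_mem _ (⟨_, hT _⟩ : T₁) (Submodule.subset_span ⟨i, rfl⟩)
  obtain ⟨F, hF⟩ := exists_intermediateField_eq_span (T := T₁) (fun i => ψ (b i))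
    (by simpa using hsp 1) (fun i j => by rw [← map_mul]; exact hsp _)
  have hFc : ∀ x, x ∈ F ↔ x ∈ Submodule.span T₁ (Set.range fun i => ψ (b i)) := fun x => Set.ext_iff.1 hF x
  have hK' : ∀ z, algebraMap K' E z ∈ F := fun z =>
    hgen (F.toSubfield.comap (algebraMap K' E))
      (fun x => (hFc _).2 (by have := hsp (algebraMap K D.KC x); rwa [hψK] at this))
      (fun y => F.algebraMap_mem (algebraMap B' T₁ (algebraMap L B' y))) z
  have hall : ∀ z : Ω, ∀ hz : z ∈ E, (⟨z, hz⟩ : E) ∈ F := fun z hz =>
    IntermediateField.adjoin_induction K' (p := fun y hy => (⟨y, hy⟩ : E) ∈ F)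
      (fun y hy => by obtain ⟨i, rfl⟩ := hy; exact (hFc _).2 (hsp (bK i)))
      (fun y => hK' y)
      (fun a a' ha ha' h h' => add_mem h h') (fun a ha h => inv_mem h)
      (fun a a' ha ha' h h' => mul_mem h h') hz
  have hspan : Submodule.span T₁ (Set.range fun i => ψ (b i)) = ⊤ :=
    eq_top_iff.2 fun x _ => (hFc x).1 (hall x.1 x.2)
  obtain ⟨hfinT, hle⟩ := finite_and_finrank_le_of_span _ hspan
  haveI : Module.Finite (IntermediateField.adjoin B' ({t} : Set E)) E := hfinT
  refine ⟨_, hle, { KC := E, KB := B', t := t, transc := ht, finrank_eq := rfl }, fun hsep => ?_⟩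
  show Algebra.IsSeparable K' E
  refine (IntermediateField.isSeparable_adjoin_iff_isSeparable K' Ω).2 ?_
  rintro _ ⟨i, rfl⟩
  exact (((Algebra.IsSeparable.isSeparable K (bK i)).map φ φ.injective) : IsSeparable K (φ (bK i))).tower_top K'

end GrothLib.CvgBC4
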