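import Groth.Agent.Lib.CvgBC4.Main
import Groth.Agent.Lib.CvgBC4.Spec

/-!
# Covering gonality under arbitrary extensions of the constants
-/

set_option autoImplicit false
set_option linter.all false

universe u

open IntermediateField W4c3irrattreebun Cardinal

namespace GrothLib.CvgBC4

/-- A set generating a field algebraically contains independent families of any size up to the degree. -/
theorem exists_indep {F C : Type u} [Field F] [Field C] [Algebra F C] {n : ℕ} (S : Set C)
    (halg : ∀ z : C, IsAlgebraic (Algebra.adjoin F S) z) {x : Fin n → C} (hx : AlgebraicIndependent F x) :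
    ∃ v : Fin n → C, AlgebraicIndependent F v ∧ ∀ i, v i ∈ S := by
  haveI : Algebra.IsAlgebraic (Algebra.adjoin F S) C := ⟨halg⟩
  obtain ⟨T, hTS, hT⟩ := exists_isTranscendenceBasis_subset (R := F) S
  have h1 : #(ULift.{u} (Fin n)) ≤ #T := by
    rw [hT.cardinalMk_eq_trdeg]
    exact (hx.comp _ ULift.down_injective).cardinalMk_le_trdeg
  obtain ⟨ψ⟩ := Cardinal.le_def _ _ |>.1 h1
  exact ⟨fun i => (ψ ⟨i⟩ : C), hT.1.comp (fun i => ψ ⟨i⟩) (ψ.injective.comp ULift.up_injective),
    fun i => hTS (ψ ⟨i⟩).2⟩

theorem false_of_indep_option {F C : Type u} [Field F] [Field C] [Algebra F C] {n : ℕ} {x : Fin n → C}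
    (hx : IsTranscendenceBasis F x) {v : Fin n → C} (hv : AlgebraicIndependent F v) {t : C}
    (ht : Transcendental (Algebra.adjoin F (Set.range v)) t) : False := by
  have h : AlgebraicIndependent F (fun o : Option (Fin n) => o.elim t v) :=
    AlgebraicIndependent.option_iff.2 ⟨hv, ht⟩
  have h1 := h.lift_cardinalMk_le_trdeg
  rw [← hx.lift_cardinalMk_eq_trdeg] at h1
  simp at h1

theorem transcendental_adjoin_of_subset_range {F B C : Type u} [Field F] [Field B] [Field C] [Algebra F C]
    [Algebra B C] (hF : ∀ x : F, algebraMap F C x ∈ Set.range (algebraMap B C)) {S : Set C}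
    (hS : S ⊆ Set.range (algebraMap B C)) {t : C} (ht : Transcendental B t) :
    Transcendental (Algebra.adjoin F S) t := by
  intro h
  let eB : B ≃+* (algebraMap B C).fieldRange := RingEquiv.ofBijective (algebraMap B C).rangeRestrictField
    ⟨fun a a' h => (algebraMap B C).injective (congrArg Subtype.val h),
      fun ⟨_, a, ha⟩ => ⟨a, Subtype.ext ha⟩⟩
  have hmem : ∀ x : Algebra.adjoin F S, (x : C) ∈ (algebraMap B C).fieldRange := fun x =>
    Algebra.adjoin_induction (R := F) (p := fun y _ => y ∈ (algebraMap B C).fieldRange) (fun y hy => hS hy)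
      hF (fun _ _ _ _ => add_mem) (fun _ _ _ _ => mul_mem) x.2
  let g : Algebra.adjoin F S →+* B :=
    eB.symm.toRingHom.comp ((algebraMap (Algebra.adjoin F S) C).codRestrict _ hmem)
  have hg : Function.Injective g := eB.symm.injective.comp fun a a' h => by
    have h2 := congrArg Subtype.val h
    exact Subtype.coe_injective h2
  refine ht (h.ringHom_of_comp_eq (S := B) (B := C) g (RingHom.id C) hg (RingHom.ext fun a => ?_))
  exact congrArg Subtype.val (eB.apply_symm_apply ⟨_, hmem a⟩)

/-- Membership in an adjoined field only involves finitely many elements. -/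
theorem exists_finset_spec {F C : Type u} [Field F] [Field C] [Algebra F C] (S : Set C) {x : C}
    (hx : x ∈ IntermediateField.adjoin F S) :
    ∃ Z : Finset C, x ∈ Z ∧ ∀ (A κ : Type u) [CommRing A] [Field κ] (j : A →+* C) (π : A →+* κ) (G : Subfield κ),
      Function.Injective j → (∀ z ∈ Z, z ∈ Set.range j) →
      (∀ a, j a ∈ Z → j a ∈ S → π a ∈ G) → (∀ r a, j a = algebraMap F C r → π a ∈ G) →
      ∀ a, j a = x → π a ∈ G := by
  classical
  induction hx using IntermediateField.adjoin_induction with
  | mem y hy =>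
    exact ⟨{y}, Finset.mem_singleton_self y, fun A κ _ _ j π G _ _ hS _ a ha =>
      hS a (by simp [ha]) (ha ▸ hy)⟩
  | algebraMap r =>
    exact ⟨{algebraMap F C r}, Finset.mem_singleton_self _, fun A κ _ _ j π G _ _ _ hF a ha => hF r a ha⟩
  | add y z _ _ hy hz =>
    obtain ⟨Y, hyY, hY⟩ := hy
    obtain ⟨Z, hzZ, hZ⟩ := hz
    refine ⟨insert (y + z) (Y ∪ Z), Finset.mem_insert_self _ _, fun A κ _ _ j π G hj hr hS hF a ha => ?_⟩
    obtain ⟨b, hb⟩ := hr y (by simp [hyY])
    obtain ⟨c, hc⟩ := hr z (by simp [hzZ])
    rw [show a = b + c from hj (by rw [map_add, ha, hb, hc]), map_add]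
    exact add_mem (hY A κ j π G hj (fun w hw => hr w (by simp [hw])) (fun a' h => hS a' (by simp [h])) hF b hb)
      (hZ A κ j π G hj (fun w hw => hr w (by simp [hw])) (fun a' h => hS a' (by simp [h])) hF c hc)
  | inv y _ hy =>
    obtain ⟨Y, hyY, hY⟩ := hy
    refine ⟨insert y⁻¹ Y, Finset.mem_insert_self _ _, fun A κ _ _ j π G hj hr hS hF a ha => ?_⟩
    obtain ⟨b, hb⟩ := hr y (by simp [hyY])
    rcases eq_or_ne y 0 with rfl | h0
    · rw [show a = 0 from hj (by rw [ha, inv_zero, map_zero]), map_zero]
      exact zero_mem G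
    · have h1 : a * b = 1 := hj (by rw [map_mul, ha, hb, inv_mul_cancel₀ h0, map_one])
      rw [eq_inv_of_mul_eq_one_left (by rw [← map_mul, h1, map_one] : π a * π b = 1)]
      exact inv_mem (hY A κ j π G hj (fun w hw => hr w (by simp [hw])) (fun a' h => hS a' (by simp [h])) hF b hb)
  | mul y z _ _ hy hz =>
    obtain ⟨Y, hyY, hY⟩ := hy
    obtain ⟨Z, hzZ, hZ⟩ := hz
    refine ⟨insert (y * z) (Y ∪ Z), Finset.mem_insert_self _ _, fun A κ _ _ j π G hj hr hS hF a ha => ?_⟩
    obtain ⟨b, hb⟩ := hr y (by simp [hyY])
    obtain ⟨c, hc⟩ := hr z (by simp [hzZ])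
    rw [show a = b * c from hj (by rw [map_mul, ha, hb, hc]), map_mul]
    exact mul_mem (hY A κ j π G hj (fun w hw => hr w (by simp [hw])) (fun a' h => hS a' (by simp [h])) hF b hb)
      (hZ A κ j π G hj (fun w hw => hr w (by simp [hw])) (fun a' h => hS a' (by simp [h])) hF c hc)

/-- Going up, for any extension of the constants. -/
theorem ascend_trans {k K L K' : Type u} [Field k] [Field K] [Field L] [Field K'] [Algebra k K] [Algebra k L]
    [Algebra k K'] [Algebra K K'] [Algebra L K'] [IsScalarTower k K K'] [IsScalarTower k L K']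
    (hgen : ∀ S : Subfield K', (∀ x, algebraMap K K' x ∈ S) → (∀ y, algebraMap L K' y ∈ S) → ∀ z, z ∈ S)
    {n : ℕ} {x : Fin n → K} (hx : IsTranscendenceBasis k x)
    (hxL : AlgebraicIndependent L (algebraMap K K' ∘ x))
    {e : ℕ} (D : CovDiag.{u} k K e) :
    ∃ e' ≤ e, Nonempty (CovDiag.{u} L K' e') := by
  classical
  let Ω := AlgebraicClosure K'
  let φ : D.KC →ₐ[K] Ω := IsAlgClosed.lift
  let bK := Module.finBasis K D.KC
  let E : IntermediateField K' Ω := IntermediateField.adjoin K' (Set.range fun i => φ (bK i))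
  haveI : Finite (Set.range fun i => φ (bK i)) := (Set.finite_range _).to_subtype
  haveI : FiniteDimensional K' E := finiteDimensional_adjoin fun x _ => Algebra.IsIntegral.isIntegral x
  have hφE : ∀ c, φ c ∈ E := by
    intro c
    rw [← bK.sum_repr c, map_sum]
    refine sum_mem fun i _ => ?_
    rw [map_smul, Algebra.smul_def, IsScalarTower.algebraMap_apply K K' Ω]
    exact mul_mem (E.algebraMap_mem _) (IntermediateField.subset_adjoin K' _ ⟨i, rfl⟩)
  letI : Algebra K E := ((algebraMap K' E).comp (algebraMap K K')).toAlgebra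
  letI : Algebra L E := ((algebraMap K' E).comp (algebraMap L K')).toAlgebra
  letI : Algebra k E := ((algebraMap K' E).comp (algebraMap k K')).toAlgebra
  haveI : IsScalarTower L K' E := IsScalarTower.of_algebraMap_eq fun _ => rfl
  haveI : IsScalarTower k L E := IsScalarTower.of_algebraMap_eq fun x =>
    congrArg (algebraMap K' E) (IsScalarTower.algebraMap_apply k L K' x)
  let ψ : D.KC →+* E := φ.toRingHom.codRestrict E hφE
  have hψK : ∀ x, ψ (algebraMap K D.KC x) = algebraMap K E x := fun x => Subtype.ext <| by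
    show φ (algebraMap K D.KC x) = _
    rw [φ.commutes, IsScalarTower.algebraMap_apply K K' Ω]
    rfl
  let ψk : D.KC →ₐ[k] E :=
    { ψ with
      commutes' := fun x => by
        show ψ (algebraMap k D.KC x) = algebraMap K' E (algebraMap k K' x)
        rw [IsScalarTower.algebraMap_apply k K D.KC, hψK, IsScalarTower.algebraMap_apply k K K']
        rfl }
  let β : D.KB →ₐ[k] E := ψk.comp (IsScalarTower.toAlgHom k D.KB D.KC)
  let B' : IntermediateField L E := IntermediateField.adjoin L (Set.range β)
  let t : E := ψ D.t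
  let T₁ : IntermediateField B' E := IntermediateField.adjoin B' {t}
  let T : IntermediateField D.KB D.KC := IntermediateField.adjoin D.KB {D.t}
  haveI : Module.Finite T D.KC := D.finiteT
  let b := Module.finBasisOfFinrankEq T D.KC D.finrank_eq
  have hT : ∀ c : T, ψ c ∈ T₁ := fun c =>
    IntermediateField.adjoin_induction D.KB (p := fun x _ => ψ x ∈ T₁)
      (fun x hx => by rw [Set.mem_singleton_iff.1 hx]; exact IntermediateField.subset_adjoin B' _ rfl)
      (fun x => T₁.algebraMap_mem ⟨β x, IntermediateField.subset_adjoin L _ ⟨x, rfl⟩⟩)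
      (fun a a' _ _ h h' => by rw [map_add]; exact add_mem h h')
      (fun a _ h => by rw [map_inv₀]; exact inv_mem h)
      (fun a a' _ _ h h' => by rw [map_mul]; exact mul_mem h h') c.2
  have hsp : ∀ c : D.KC, ψ c ∈ Submodule.span T₁ (Set.range fun i => ψ (b i)) := fun c => by
    rw [← b.sum_repr c, map_sum]
    refine Submodule.sum_mem _ fun i _ => ?_
    rw [show b.repr c i • b i = ((b.repr c i : T) : D.KC) * b i from rfl, map_mul]
    exact Submodule.smul_mem _ (⟨_, hT _⟩ : T₁) (Submodule.subset_span ⟨i, rfl⟩)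
  obtain ⟨F, hF⟩ := exists_intermediateField_eq_span (T := T₁) (fun i => ψ (b i))
    (by simpa using hsp 1) (fun i j => by rw [← map_mul]; exact hsp _)
  have hFc : ∀ x, x ∈ F ↔ x ∈ Submodule.span T₁ (Set.range fun i => ψ (b i)) := fun x => Set.ext_iff.1 hF x
  have hK' : ∀ z, algebraMap K' E z ∈ F := fun z =>
    hgen (F.toSubfield.comap (algebraMap K' E))
      (fun x => (hFc _).2 (by have := hsp (algebraMap K D.KC x); rwa [hψK] at this))
      (fun y => F.algebraMap_mem (algebraMap B' T₁ (algebraMap L B' y))) z
  have hall : ∀ z : Ω, ∀ hz : z ∈ E, (⟨z, hz⟩ : E) ∈ F := fun z hz =>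
    IntermediateField.adjoin_induction K' (p := fun y hy => (⟨y, hy⟩ : E) ∈ F)
      (fun y hy => by obtain ⟨i, rfl⟩ := hy; exact (hFc _).2 (hsp (bK i)))
      (fun y => hK' y)
      (fun a a' ha ha' h h' => add_mem h h') (fun a ha h => inv_mem h)
      (fun a a' ha ha' h h' => mul_mem h h') hz
  have hspan : Submodule.span T₁ (Set.range fun i => ψ (b i)) = ⊤ :=
    eq_top_iff.2 fun x _ => (hFc x).1 (hall x.1 x.2)
  obtain ⟨hfinT, hle⟩ := finite_and_finrank_le_of_span _ hspan
  haveI : Module.Finite T₁ E := hfinT
  have ht : Transcendental B' t := by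
    intro halg
    haveI : FiniteDimensional B' T₁ := IntermediateField.adjoin.finiteDimensional halg.isIntegral
    haveI : Module.Finite B' E := Module.Finite.trans T₁ E
    have hxE : AlgebraicIndependent L (IsScalarTower.toAlgHom L K' E ∘ algebraMap K K' ∘ x) :=
      hxL.map' (algebraMap K' E).injective
    obtain ⟨v, hv, hvS⟩ := exists_indep (Set.range β)
      (fun z => IntermediateField.isAlgebraic_adjoin_iff.1 (Algebra.IsAlgebraic.isAlgebraic (R := B') z)) hxE
    choose w hw using hvS
    have hwk : AlgebraicIndependent k (algebraMap D.KB D.KC ∘ w) := by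
      refine AlgebraicIndependent.of_comp ψk ?_
      rw [show ψk ∘ algebraMap D.KB D.KC ∘ w = v from funext hw]
      exact hv.restrictScalars (algebraMap k L).injective
    refine false_of_indep_option (hx.algebraMap_comp (A := D.KC)) hwk
      (transcendental_adjoin_of_subset_range (fun r => ⟨algebraMap k D.KB r, ?_⟩) ?_ D.transc)
    · exact (IsScalarTower.algebraMap_apply k D.KB D.KC r).symm
    · rintro _ ⟨i, rfl⟩
      exact ⟨w i, rfl⟩
  haveI : Module.Finite (IntermediateField.adjoin B' ({t} : Set E)) E := hfinT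
  exact ⟨_, hle, ⟨{ KC := E, KB := B', t := t, transc := ht, finrank_eq := rfl }⟩⟩

/-- Going down, for any extension of the constants. -/
theorem descend_trans {k K L K' : Type u} [Field k] [Field K] [Field L] [Field K'] [Algebra k K] [Algebra k L]
    [Algebra k K'] [Algebra K K'] [Algebra L K'] [IsScalarTower k K K'] [IsScalarTower k L K']
    (hgen : ∀ S : Subfield K', (∀ x, algebraMap K K' x ∈ S) → (∀ y, algebraMap L K' y ∈ S) → ∀ z, z ∈ S)
    (hfg : (⊤ : IntermediateField k K).FG)
    {n : ℕ} {x : Fin n → K} (hx : IsTranscendenceBasis k x)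
    (hxL : AlgebraicIndependent L (algebraMap K K' ∘ x))
    {σ : Type u} {y : σ → L} (hy : IsTranscendenceBasis k y)
    (hyK : AlgebraicIndependent K (algebraMap L K' ∘ y))
    {e : ℕ} (D : CovDiag.{u} L K' e) :
    ∃ e' ≤ e, Nonempty (CovDiag.{u} k K e') := by
  classical
  let C := D.KC
  letI : Algebra K C := ((algebraMap K' C).comp (algebraMap K K')).toAlgebra
  letI : Algebra k C := ((algebraMap K' C).comp (algebraMap k K')).toAlgebra
  haveI : IsScalarTower K K' C := IsScalarTower.of_algebraMap_eq fun _ => rfl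
  haveI : IsScalarTower k K C := IsScalarTower.of_algebraMap_eq fun x => by
    show algebraMap K' C (algebraMap k K' x) = algebraMap K' C (algebraMap K K' (algebraMap k K x))
    rw [IsScalarTower.algebraMap_apply k K K' x]
  haveI : IsScalarTower k L C := IsScalarTower.of_algebraMap_eq fun x => by
    show algebraMap K' C (algebraMap k K' x) = _
    rw [IsScalarTower.algebraMap_apply k L K' x, ← IsScalarTower.algebraMap_apply L K' C]
  -- transcendence degree over `L`
  have hxK' : IsTranscendenceBasis L (algebraMap K K' ∘ x) := by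
    refine hxL.isTranscendenceBasis_iff_isAlgebraic.2 ⟨fun z => ?_⟩
    let R := Algebra.adjoin L (Set.range (algebraMap K K' ∘ x))
    have hR : Function.Injective (algebraMap R K') := Subtype.coe_injective
    refine isAlgebraic_all_of_gen (Set.range (algebraMap K K') ∪ Set.range (algebraMap L K'))
      (fun S hS => hgen S (fun r => hS (Or.inl ⟨r, rfl⟩)) (fun r => hS (Or.inr ⟨r, rfl⟩))) hR ?_ z
    rintro _ (⟨r, rfl⟩ | ⟨r, rfl⟩)
    · have hmem : ∀ q : Algebra.adjoin k (Set.range x), algebraMap K K' q ∈ R := fun q =>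
        Algebra.adjoin_induction (R := k) (p := fun w _ => algebraMap K K' w ∈ R)
          (fun w hw => by obtain ⟨i, rfl⟩ := hw; exact Algebra.subset_adjoin ⟨i, rfl⟩)
          (fun w => by
            rw [← IsScalarTower.algebraMap_apply k K K', IsScalarTower.algebraMap_apply k L K']
            exact R.algebraMap_mem _)
          (fun _ _ _ _ h h' => by rw [map_add]; exact add_mem h h')
          (fun _ _ _ _ h h' => by rw [map_mul]; exact mul_mem h h') q.2
      exact (hx.isAlgebraic.isAlgebraic r).ringHom_of_comp_eq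
        (((algebraMap K K').comp (algebraMap (Algebra.adjoin k (Set.range x)) K)).codRestrict R hmem)
        (algebraMap K K') (fun a a' h => Subtype.coe_injective ((algebraMap K K').injective
          (congrArg (fun w : R => (w : K')) h))) rfl
    · exact isAlgebraic_algebraMap (⟨algebraMap L K' r, R.algebraMap_mem r⟩ : R)
  have hxC : IsTranscendenceBasis L (algebraMap K' C ∘ algebraMap K K' ∘ x) := hxK'.algebraMap_comp
  -- algebraicity over `K[y]`
  let P := MvPolynomial σ K
  let R₀ := MvPolynomial σ k
  letI : Algebra R₀ L := (MvPolynomial.aeval (R := k) y).toRingHom.toAlgebra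
  haveI hR₀L : Algebra.IsAlgebraic R₀ L := ⟨fun l =>
    (hy.isAlgebraic.isAlgebraic l).ringHom_of_comp_eq (S := R₀) (B := L)
      hy.1.aevalEquiv.symm.toAlgHom.toRingHom (RingHom.id L) hy.1.aevalEquiv.symm.injective
      (RingHom.ext fun q => by
        conv_rhs => rw [← hy.1.aevalEquiv.apply_symm_apply q]
        exact (hy.1.algebraMap_aevalEquiv _).symm)⟩
  letI : Algebra R₀ C := ((algebraMap L C).comp (algebraMap R₀ L)).toAlgebra
  haveI : IsScalarTower R₀ L C := IsScalarTower.of_algebraMap_eq fun _ => rfl
  letI : Algebra P K' := (MvPolynomial.aeval (R := K) (algebraMap L K' ∘ y)).toRingHom.toAlgebra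
  have hPK' : ∀ z : K', IsAlgebraic P z := by
    refine isAlgebraic_all_of_gen (Set.range (algebraMap K K') ∪ Set.range (algebraMap L K'))
      (fun S hS => hgen S (fun r => hS (Or.inl ⟨r, rfl⟩)) (fun r => hS (Or.inr ⟨r, rfl⟩)))
      ((algebraicIndependent_iff_injective_aeval).1 hyK) ?_
    rintro _ (⟨r, rfl⟩ | ⟨r, rfl⟩)
    · rw [show algebraMap K K' r = algebraMap P K' (MvPolynomial.C r) from
        ((MvPolynomial.aeval (R := K) (algebraMap L K' ∘ y)).commutes r).symm]
      exact isAlgebraic_algebraMap _
    · refine (Algebra.IsAlgebraic.isAlgebraic (R := R₀) r).ringHom_of_comp_eq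
        (MvPolynomial.map (algebraMap k K)) (algebraMap L K')
        (MvPolynomial.map_injective _ (algebraMap k K).injective) ?_
      refine MvPolynomial.ringHom_ext (fun w => ?_) (fun i => ?_)
      · show MvPolynomial.aeval (R := K) (algebraMap L K' ∘ y) (MvPolynomial.map (algebraMap k K) (MvPolynomial.C w)) =
          algebraMap L K' (MvPolynomial.aeval (R := k) y (MvPolynomial.C w))
        rw [MvPolynomial.map_C, MvPolynomial.aeval_C, MvPolynomial.aeval_C,
          ← IsScalarTower.algebraMap_apply k K K', ← IsScalarTower.algebraMap_apply k L K']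
      · show MvPolynomial.aeval (R := K) (algebraMap L K' ∘ y) (MvPolynomial.map (algebraMap k K) (MvPolynomial.X i)) =
          algebraMap L K' (MvPolynomial.aeval (R := k) y (MvPolynomial.X i))
        simp
  let yC : σ → C := fun i => algebraMap L C (y i)
  have hyC : AlgebraicIndependent K yC := by
    have h := hyK.map' (f := IsScalarTower.toAlgHom K K' C) (algebraMap K' C).injective
    rwa [show ⇑(IsScalarTower.toAlgHom K K' C) ∘ algebraMap L K' ∘ y = yC from
      funext fun i => (IsScalarTower.algebraMap_apply L K' C (y i)).symm] at h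
  have halgC : ∀ z : C, letI := (MvPolynomial.aeval (R := K) yC).toRingHom.toAlgebra
      IsAlgebraic (MvPolynomial σ K) z := by
    letI : Algebra P C := (MvPolynomial.aeval (R := K) yC).toRingHom.toAlgebra
    haveI : IsScalarTower P K' C := IsScalarTower.of_algebraMap_eq fun p => by
      show MvPolynomial.aeval yC p = (IsScalarTower.toAlgHom K K' C) (MvPolynomial.aeval (algebraMap L K' ∘ y) p)
      rw [← AlgHom.comp_apply, MvPolynomial.comp_aeval]
      exact congrArg (fun f => MvPolynomial.aeval (R := K) f p)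
        (funext fun i => IsScalarTower.algebraMap_apply L K' C (y i))
    haveI : Algebra.IsAlgebraic P K' := ⟨hPK'⟩
    exact fun z => (Algebra.IsAlgebraic.trans P K' C).isAlgebraic z
  -- the elements to be controlled
  let T : IntermediateField D.KB C := IntermediateField.adjoin D.KB {D.t}
  haveI : Module.Finite T C := D.finiteT
  let b := Module.finBasisOfFinrankEq T C D.finrank_eq
  obtain ⟨G, hG⟩ := hfg
  let P₁ : Finset C := {1} ∪ G.image (algebraMap K C) ∪
    (Finset.univ : Finset (Fin e × Fin e)).image (fun p => b p.1 * b p.2)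
  let S : Set C := insert D.t (Set.range (algebraMap D.KB C))
  have hS : ∀ c : T, (c : C) ∈ IntermediateField.adjoin k S := by
    intro c
    refine IntermediateField.adjoin_induction D.KB (p := fun x _ => x ∈ IntermediateField.adjoin k S)
      ?_ ?_ ?_ ?_ ?_ c.2
    · intro x hx
      exact IntermediateField.subset_adjoin k S (Or.inl hx)
    · intro x
      exact IntermediateField.subset_adjoin k S (Or.inr ⟨x, rfl⟩)
    · intro x y _ _ hx hy; exact add_mem hx hy
    · intro x _ hx; exact inv_mem hx
    · intro x y _ _ hx hy; exact mul_mem hx hy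
  choose W hWmem hW using fun c : T => exists_finset_spec (F := k) S (hS c)
  let Z : Finset C := P₁ ∪ Finset.univ.image (fun i => b i) ∪ {D.t} ∪
    (P₁ ×ˢ (Finset.univ : Finset (Fin e))).biUnion (fun p => W (b.repr p.1 p.2))
  let s : Finset C := Z.filter (fun z => z ∈ Set.range (algebraMap D.KB C))
  -- relations among `s` over `k[y]`
  have hrel : ∀ v : Fin n → (s : Set C), ∃ (g : MvPolynomial (Fin n) R₀) (m : Fin n →₀ ℕ),
      g.coeff m ≠ 0 ∧ MvPolynomial.aeval (fun i => (v i : C)) g = 0 := by
    intro v
    have h : ¬ AlgebraicIndependent R₀ (fun i => (v i : C)) := fun h => by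
      refine false_of_indep_option hxC (AlgebraicIndependent.extendScalars (S := L) h)
        (transcendental_adjoin_of_subset_range (fun r => ⟨algebraMap L D.KB r, ?_⟩) ?_ D.transc)
      · exact (IsScalarTower.algebraMap_apply L D.KB C r).symm
      · rintro _ ⟨i, rfl⟩
        exact (Finset.mem_filter.1 (v i).2).2
    rw [algebraicIndependent_iff] at h
    push_neg at h
    obtain ⟨g, hg, hg0⟩ := h
    obtain ⟨m, hm⟩ := MvPolynomial.ne_zero_iff.1 hg0
    exact ⟨g, m, hm, hg⟩
  choose g m hm hg using hrel
  obtain ⟨A, κ, _, _, _, _, _, _, j, π, a, hj, _, hZ, ha, halg, hc⟩ :=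
    exists_specialization (k := k) yC hyC halgC Z (∏ v : Fin n → (s : Set C), (g v).coeff (m v))
      (Finset.prod_ne_zero_iff.2 fun v _ => hm v)
  let pz : C → κ := fun z => π (Function.invFun j z)
  have hpz : ∀ z w, j w = z → π w = pz z := fun z w h => by
    show π w = π (Function.invFun j z)
    rw [← h, Function.leftInverse_invFun hj w]
  have hpre : ∀ z ∈ Z, j (Function.invFun j z) = z := fun z hz => Function.invFun_eq (hZ z hz)
  let B : IntermediateField k κ := IntermediateField.adjoin k (pz '' s)
  let t₁ : κ := pz D.t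
  let T₀ : IntermediateField B κ := IntermediateField.adjoin B {t₁}
  let w : Fin e → κ := fun i => pz (b i)
  have hrepr : ∀ p ∈ P₁, ∀ i, pz (b.repr p i : C) ∈ T₀ := by
    intro p hp i
    have hsub : W (b.repr p i) ⊆ Z := fun z hz => Finset.mem_union_right _
      (Finset.mem_biUnion.2 ⟨(p, i), by simp [hp], hz⟩)
    refine hW _ A κ j.toRingHom π.toRingHom T₀.toSubfield hj (fun z hz => hZ z (hsub hz)) ?_ ?_ _
      (hpre _ (hsub (hWmem _)))
    · intro a' ha' ha''
      show π a' ∈ T₀
      rw [hpz _ a' rfl]
      rcases ha'' with h | h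
      · rw [show j a' = D.t from h]
        exact IntermediateField.subset_adjoin B _ rfl
      · exact T₀.algebraMap_mem ⟨_, IntermediateField.subset_adjoin k _
          ⟨_, Finset.mem_coe.2 (Finset.mem_filter.2 ⟨hsub ha', h⟩), rfl⟩⟩
    · intro r a' ha'
      show π a' ∈ T₀
      rw [show a' = algebraMap K A (algebraMap k K r) from hj (by
        rw [j.commutes, ← IsScalarTower.algebraMap_apply]; exact ha'), π.commutes,
        ← IsScalarTower.algebraMap_apply]
      exact T₀.algebraMap_mem (algebraMap k B r)
  have hP : ∀ p ∈ P₁, pz p ∈ Submodule.span T₀ (Set.range w) := by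
    intro p hp
    have h1 : ∀ i, j (Function.invFun j (b.repr p i : C)) = (b.repr p i : C) := fun i =>
      hpre _ (Finset.mem_union_right _ (Finset.mem_biUnion.2 ⟨(p, i), by simp [hp], hWmem _⟩))
    have h2 : ∀ i, j (Function.invFun j (b i)) = b i := fun i => hpre _ (by simp [Z])
    rw [← hpz p (∑ i, Function.invFun j (b.repr p i : C) * Function.invFun j (b i)) (by
      rw [map_sum]
      simp only [map_mul, h1, h2]
      exact b.sum_repr p), map_sum]
    refine Submodule.sum_mem _ fun i _ => ?_
    rw [map_mul]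
    exact Submodule.smul_mem _ (⟨_, hrepr p hp i⟩ : T₀) (Submodule.subset_span ⟨i, rfl⟩)
  obtain ⟨F, hF⟩ := exists_intermediateField_eq_span (T := T₀) w (by
      have h := hP 1 (by simp [P₁])
      rwa [← hpz 1 1 (map_one j), map_one] at h)
    (fun i i' => by
      have h := hP (b i * b i') (Finset.mem_union_right _ (Finset.mem_image.2 ⟨(i, i'), by simp, rfl⟩))
      rwa [← hpz (b i * b i') (Function.invFun j (b i) * Function.invFun j (b i'))
        (by rw [map_mul, hpre _ (by simp [Z]), hpre _ (by simp [Z])]), map_mul] at h)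
  let E : IntermediateField B κ := F.restrictScalars B
  have hE : ∀ x, x ∈ E ↔ x ∈ Submodule.span T₀ (Set.range w) := fun x => Set.ext_iff.1 hF x
  have hT₀E : ∀ x ∈ T₀, x ∈ E := fun x hx => F.algebraMap_mem ⟨x, hx⟩
  have hKE : ∀ x : K, algebraMap K κ x ∈ E := by
    intro x
    refine IntermediateField.adjoin_induction k (p := fun y _ => algebraMap K κ y ∈ E) ?_ ?_ ?_ ?_ ?_
      (show x ∈ IntermediateField.adjoin k (G : Set K) by rw [hG]; trivial)
    · intro z hz
      have h := hP (algebraMap K C z)
        (Finset.mem_union_left _ (Finset.mem_union_right _ (Finset.mem_image_of_mem _ hz)))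
      rw [← hpz _ (algebraMap K A z) (j.commutes z), π.commutes] at h
      exact (hE _).2 h
    · intro z
      rw [← IsScalarTower.algebraMap_apply k K κ]
      exact E.algebraMap_mem (algebraMap k B z)
    · intro a a' _ _ h h'; rw [map_add]; exact add_mem h h'
    · intro a _ h; rw [map_inv₀]; exact inv_mem h
    · intro a a' _ _ h h'; rw [map_mul]; exact mul_mem h h'
  let t : E := ⟨t₁, hT₀E _ (IntermediateField.subset_adjoin B _ rfl)⟩
  letI : Algebra K E := ((algebraMap K κ).codRestrict E hKE).toAlgebra
  letI : Algebra k E := ((algebraMap B E).comp (algebraMap k B)).toAlgebra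
  haveI : IsScalarTower k K E := IsScalarTower.of_algebraMap_eq fun x => Subtype.ext
    (IsScalarTower.algebraMap_apply k K κ x)
  haveI : IsScalarTower k B E := IsScalarTower.of_algebraMap_eq fun _ => rfl
  haveI : IsScalarTower K E κ := IsScalarTower.of_algebraMap_eq fun _ => rfl
  let ι : E →ₐ[K] κ := { E.val.toRingHom with commutes' := fun _ => rfl }
  let H : IntermediateField K κ :=
    IntermediateField.adjoin K (insert t₁ (pz '' s ∪ Set.range w))
  haveI : FiniteDimensional K H := by
    haveI : Finite (insert t₁ (pz '' s ∪ Set.range w) : Set κ) :=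
      (((s.finite_toSet.image pz).union (Set.finite_range _)).insert _).to_subtype
    exact finiteDimensional_adjoin fun x _ => Algebra.IsIntegral.isIntegral x
  have hBH : ∀ x : κ, x ∈ B → x ∈ H := fun x hx =>
    IntermediateField.adjoin_induction k (p := fun y _ => y ∈ H)
      (fun y hy => IntermediateField.subset_adjoin K _ (Or.inr (Or.inl hy)))
      (fun y => by rw [IsScalarTower.algebraMap_apply k K κ]; exact H.algebraMap_mem _)
      (fun _ _ _ _ => add_mem) (fun _ _ => inv_mem) (fun _ _ _ _ => mul_mem) hx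
  have hT₀H : ∀ x ∈ T₀, x ∈ H := fun x hx =>
    IntermediateField.adjoin_induction B (p := fun y _ => y ∈ H)
      (fun y hy => by rw [Set.mem_singleton_iff.1 hy]; exact IntermediateField.subset_adjoin K _ (Or.inl rfl))
      (fun y => hBH _ y.2)
      (fun _ _ _ _ => add_mem) (fun _ _ => inv_mem) (fun _ _ _ _ => mul_mem) hx
  have hEH : ∀ x ∈ E, x ∈ H := by
    intro x hx
    have hx' := (hE x).1 hx
    induction hx' using Submodule.span_induction with
    | mem a ha => exact IntermediateField.subset_adjoin K _ (Or.inr (Or.inr ha))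
    | zero => exact zero_mem H
    | add p q hp' hq' hp hq => exact add_mem (hp ((hE p).2 hp')) (hq ((hE q).2 hq'))
    | smul c p hp' hp => exact mul_mem (hT₀H _ c.2) (hp ((hE p).2 hp'))
  haveI : Module.Finite K E :=
    Module.Finite.of_injective (ι.codRestrict H.toSubalgebra fun x => hEH _ x.2).toLinearMap
      (fun a a' h => Subtype.ext (congrArg (fun z : H.toSubalgebra => (z : κ)) h))
  let T₁ : IntermediateField B E := IntermediateField.adjoin B {t}
  have hT₁ : T₁.map E.val = T₀ := by
    rw [IntermediateField.adjoin_map, Set.image_singleton]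
    rfl
  have hwE : ∀ i, w i ∈ E := fun i => (hE _).2 (Submodule.subset_span ⟨i, rfl⟩)
  have hspan : Submodule.span T₁ (Set.range fun i => (⟨w i, hwE i⟩ : E)) = ⊤ := by
    refine eq_top_iff.2 fun x _ => ?_
    obtain ⟨c, hc⟩ := (Submodule.mem_span_range_iff_exists_fun _).1 ((hE x.1).1 x.2)
    have hc' : ∀ i, ∃ d : T₁, ((d : E) : κ) = (c i : κ) := fun i => by
      obtain ⟨d, hd, hd'⟩ := (show (c i : κ) ∈ T₁.map E.val by rw [hT₁]; exact (c i).2)
      exact ⟨⟨d, hd⟩, hd'⟩
    choose d hd using hc'
    refine (Submodule.mem_span_range_iff_exists_fun _).2 ⟨d, Subtype.ext ?_⟩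
    rw [← hc, IntermediateField.coe_sum]
    exact Finset.sum_congr rfl fun i _ => congrArg (· * w i) (hd i)
  obtain ⟨hfinT, hle⟩ := finite_and_finrank_le_of_span _ hspan
  haveI : Module.Finite T₁ E := hfinT
  have ht : Transcendental B t := by
    intro halgt
    haveI : FiniteDimensional B T₁ := IntermediateField.adjoin.finiteDimensional halgt.isIntegral
    haveI : Module.Finite B E := Module.Finite.trans T₁ E
    haveI : Algebra.IsAlgebraic E κ := Algebra.IsAlgebraic.tower_top (K := K) E
    have hκ : Algebra.IsAlgebraic B κ := Algebra.IsAlgebraic.trans B E κ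
    have hxκ : AlgebraicIndependent k (IsScalarTower.toAlgHom k K κ ∘ x) :=
      hx.1.map' (algebraMap K κ).injective
    obtain ⟨v, hv, hvS⟩ := exists_indep (pz '' s)
      (fun z => IntermediateField.isAlgebraic_adjoin_iff.1 (hκ.isAlgebraic z)) hxκ
    choose u hu hu' using hvS
    let us : Fin n → (s : Set C) := fun i => ⟨u i, hu i⟩
    let k₂ : IntermediateField k κ := algebraicClosure k κ
    have hv₂ : AlgebraicIndependent k₂ v := AlgebraicIndependent.extendScalars (S := k₂) hv
    let f₁ : R₀ →ₐ[k] κ := MvPolynomial.aeval fun i => π (a i)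
    have hf₁ : ∀ r, f₁ r ∈ k₂ := fun r => by
      induction r using MvPolynomial.induction_on with
      | C z => rw [MvPolynomial.aeval_C]; exact k₂.algebraMap_mem z
      | add p q hp hq => rw [map_add]; exact add_mem hp hq
      | mul_X p i hp =>
        rw [map_mul]
        exact mul_mem hp (by rw [MvPolynomial.aeval_X]; exact mem_algebraicClosure_iff.2 (halg i))
    let f₂ : R₀ →+* k₂ := f₁.toRingHom.codRestrict k₂ hf₁
    have h0 : MvPolynomial.aeval v (MvPolynomial.map f₂ (g us)) = 0 := by
      let f₀ : R₀ →+* A := MvPolynomial.eval₂Hom ((algebraMap K A).comp (algebraMap k K)) a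
      have hf₀ : j.toRingHom.comp f₀ = algebraMap R₀ C := MvPolynomial.ringHom_ext
        (fun z => by
          show j (f₀ (MvPolynomial.C z)) = algebraMap L C (MvPolynomial.aeval y (MvPolynomial.C z))
          rw [MvPolynomial.eval₂Hom_C, RingHom.comp_apply, j.commutes, MvPolynomial.aeval_C,
            ← IsScalarTower.algebraMap_apply, ← IsScalarTower.algebraMap_apply])
        (fun i => by
          show j (f₀ (MvPolynomial.X i)) = algebraMap L C (MvPolynomial.aeval y (MvPolynomial.X i))
          rw [MvPolynomial.eval₂Hom_X', MvPolynomial.aeval_X]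
          exact ha i)
      have hπf : π.toRingHom.comp f₀ = (algebraMap k₂ κ).comp f₂ := MvPolynomial.ringHom_ext
        (fun z => by
          show π (f₀ (MvPolynomial.C z)) = f₁ (MvPolynomial.C z)
          rw [MvPolynomial.eval₂Hom_C, RingHom.comp_apply, π.commutes, MvPolynomial.aeval_C,
            ← IsScalarTower.algebraMap_apply])
        (fun i => by
          show π (f₀ (MvPolynomial.X i)) = f₁ (MvPolynomial.X i)
          rw [MvPolynomial.eval₂Hom_X', MvPolynomial.aeval_X])
      let us' : Fin n → A := fun i => Function.invFun j (u i)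
      have hzero : MvPolynomial.eval₂ f₀ us' (g us) = 0 := by
        refine hj ?_
        show j.toRingHom (MvPolynomial.eval₂ f₀ us' (g us)) = j 0
        rw [map_zero, MvPolynomial.eval₂_comp_left, hf₀, ← hg us]
        exact congrArg (fun f => MvPolynomial.eval₂ (algebraMap R₀ C) f (g us))
          (funext fun i => hpre _ (Finset.mem_filter.1 (hu i)).1)
      rw [MvPolynomial.aeval_def, MvPolynomial.eval₂_map, ← hπf,
        show v = π.toRingHom ∘ us' from funext fun i => (hu' i).symm,
        ← MvPolynomial.eval₂_comp_left, hzero, map_zero]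
    have h1 := congrArg (MvPolynomial.coeff (m us)) (algebraicIndependent_iff.1 hv₂ _ h0)
    rw [MvPolynomial.coeff_map, MvPolynomial.coeff_zero] at h1
    refine hc ?_
    show f₁ (∏ v, (g v).coeff (m v)) = 0
    rw [map_prod]
    exact Finset.prod_eq_zero (Finset.mem_univ us) (congrArg Subtype.val h1)
  haveI : Module.Finite (IntermediateField.adjoin B ({t} : Set E)) E := hfinT
  exact ⟨_, hle, ⟨{ KC := E, KB := B, t := t, transc := ht, finrank_eq := rfl }⟩⟩

end GrothLib.CvgBC4
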